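/-
Checkable orbit certificates for a subgroup acting on an invariant set, where the subgroup is given
by elements known to lie in it (typically the stabiliser of an object of another kind).
-/
import Cfsg.Agent.Lib.Orbit.Cert

set_option autoImplicit false

open scoped Pointwise

namespace Cfsg.Agent.Lib.Orbit

variable {G X A C : Type} [Group G] [MulAction G X]

namespace Coding

variable (D : Coding G X A C)

/-- A checked decomposition of `P` into orbits of a subgroup containing the generators. -/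
structure CrossDecomp (H : Subgroup G) (P : Set X) (gens : List A)
    (os : List (C × OrbTree C)) : Prop where
  valid : ∀ a ∈ gens, D.valid a = true
  mem : ∀ a ∈ gens, D.rho a ∈ H
  ok : D.orbsOk gens os = true
  inv : ∀ g ∈ H, ∀ x ∈ P, g • x ∈ P
  roots : ∀ o ∈ os, D.den o.1 ∈ P
  nodup : ((os.flatMap orbCodes).map D.den).Nodup
  count : P.ncard = (os.flatMap orbCodes).length
  fin : P.Finite

namespace CrossDecomp

variable {D} {H : Subgroup G} {P : Set X} {gens : List A} {os : List (C × OrbTree C)}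

theorem orbit_subset (h : D.CrossDecomp H P gens os) {x : X} (hx : x ∈ P) :
    MulAction.orbit H x ⊆ P := by
  rintro _ ⟨g, rfl⟩
  exact h.inv g.1 g.2 x hx

theorem code_mem (h : D.CrossDecomp H P gens os) {o : C × OrbTree C} (ho : o ∈ os) {c : C}
    (hc : c ∈ orbCodes o) : D.den c ∈ MulAction.orbit H (D.den o.1) := by
  rw [orbCodes, List.mem_cons] at hc
  rcases hc with rfl | hc
  · exact MulAction.mem_orbit_self _
  · obtain ⟨g, hg, e⟩ := D.treeOk_mem gens h.valid H h.mem o.2 o.1
      (List.all_eq_true.1 h.ok o ho) c hc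
    exact ⟨⟨g, hg⟩, e⟩

theorem codes_eq (h : D.CrossDecomp H P gens os) :
    P = {x | ∃ c ∈ os.flatMap orbCodes, D.den c = x} := by
  classical
  have hset : {x | ∃ c ∈ os.flatMap orbCodes, D.den c = x}
      = (((os.flatMap orbCodes).map D.den).toFinset : Set X) := by
    ext x; simp
  rw [hset]
  refine (Set.eq_of_subset_of_ncard_le ?_ ?_ h.fin).symm
  · intro x hx
    simp only [Finset.mem_coe, List.mem_toFinset, List.mem_map, List.mem_flatMap] at hx
    obtain ⟨c, ⟨o, ho, hc⟩, rfl⟩ := hx
    exact h.orbit_subset (h.roots o ho) (h.code_mem ho hc)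
  · rw [Set.ncard_coe_finset, List.toFinset_card_of_nodup h.nodup, List.length_map, h.count]

theorem exists_root (h : D.CrossDecomp H P gens os) {x : X} (hx : x ∈ P) :
    ∃ o ∈ os, x ∈ MulAction.orbit H (D.den o.1) := by
  rw [h.codes_eq] at hx
  obtain ⟨c, hc, rfl⟩ := hx
  obtain ⟨o, ho, hco⟩ := List.mem_flatMap.1 hc
  exact ⟨o, ho, h.code_mem ho hco⟩

section Inv

variable {β : Type} (inv : X → β)
  (hinv : ∀ g ∈ H, ∀ x ∈ P, inv (g • x) = inv x)
  (hsep : (os.map fun o => inv (D.den o.1)).Nodup)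

include hinv in
theorem inv_of_orbit (h : D.CrossDecomp H P gens os) {o : C × OrbTree C} (ho : o ∈ os) {x : X}
    (hx : x ∈ MulAction.orbit H (D.den o.1)) : inv x = inv (D.den o.1) := by
  obtain ⟨g, rfl⟩ := hx
  exact hinv g.1 g.2 _ (h.roots o ho)

include hinv hsep in
theorem mem_orbit_iff (h : D.CrossDecomp H P gens os) {o : C × OrbTree C} (ho : o ∈ os) {x : X} :
    x ∈ MulAction.orbit H (D.den o.1) ↔ x ∈ P ∧ inv x = inv (D.den o.1) := by
  refine ⟨fun hx => ⟨h.orbit_subset (h.roots o ho) hx, h.inv_of_orbit inv hinv ho hx⟩, ?_⟩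
  rintro ⟨hxP, he⟩
  obtain ⟨o', ho', hx⟩ := h.exists_root hxP
  obtain rfl := List.inj_on_of_nodup_map hsep ho' ho
    ((h.inv_of_orbit inv hinv ho' hx).symm.trans he)
  exact hx

include hinv hsep in
theorem exists_smul_eq (h : D.CrossDecomp H P gens os) {x y : X} (hx : x ∈ P) (hy : y ∈ P)
    (he : inv x = inv y) : ∃ g ∈ H, g • x = y := by
  obtain ⟨o, ho, gx, rfl⟩ := h.exists_root hx
  obtain ⟨gy, rfl⟩ := (h.mem_orbit_iff inv hinv hsep ho).2
    ⟨hy, he.symm.trans (hinv gx.1 gx.2 _ (h.roots o ho))⟩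
  refine ⟨gy.1 * gx.1⁻¹, (gy * gx⁻¹).2, ?_⟩
  show (gy.1 * gx.1⁻¹) • gx.1 • D.den o.1 = gy.1 • D.den o.1
  rw [mul_smul, inv_smul_smul]

include hinv hsep in
theorem ncard_orbit (h : D.CrossDecomp H P gens os) {o : C × OrbTree C} (ho : o ∈ os) :
    (MulAction.orbit H (D.den o.1)).ncard = (orbCodes o).length := by
  classical
  have hnd : ((orbCodes o).map D.den).Nodup := by
    refine h.nodup.sublist (List.Sublist.map _ ?_)
    obtain ⟨s, t, rfl⟩ := List.append_of_mem ho
    rw [List.flatMap_append, List.flatMap_cons]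
    exact (List.sublist_append_left _ _).trans (List.sublist_append_right _ _)
  have hset : MulAction.orbit H (D.den o.1) = (((orbCodes o).map D.den).toFinset : Set X) := by
    ext x
    simp only [Finset.mem_coe, List.mem_toFinset, List.mem_map]
    constructor
    · intro hx
      have hxP := h.orbit_subset (h.roots o ho) hx
      rw [h.codes_eq] at hxP
      obtain ⟨c, hc, rfl⟩ := hxP
      obtain ⟨o', ho', hco⟩ := List.mem_flatMap.1 hc
      obtain rfl := List.inj_on_of_nodup_map hsep ho' ho
        ((h.inv_of_orbit inv hinv ho' (h.code_mem ho' hco)).symm.trans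
          (h.inv_of_orbit inv hinv ho hx))
      exact ⟨c, hco, rfl⟩
    · rintro ⟨c, hc, rfl⟩
      exact h.code_mem ho hc
  rw [hset, Set.ncard_coe_finset, List.toFinset_card_of_nodup hnd, List.length_map]

end Inv

end CrossDecomp

end Coding

/-- Orbits of conjugate stabilisers on a second set correspond. -/
theorem cross_orbit_smul {Y : Type} [MulAction G Y] (g : G) (x : X) (y : Y) :
    MulAction.orbit (MulAction.stabilizer G (g • x)) (g • y)
      = g • MulAction.orbit (MulAction.stabilizer G x) y := by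
  ext z
  rw [Set.mem_smul_set_iff_inv_smul_mem]
  constructor
  · rintro ⟨⟨h, hh⟩, rfl⟩
    refine ⟨⟨g⁻¹ * h * g, ?_⟩, ?_⟩
    · rw [MulAction.mem_stabilizer_iff, mul_smul, mul_smul, MulAction.mem_stabilizer_iff.1 hh,
        inv_smul_smul]
    · show (g⁻¹ * h * g) • y = g⁻¹ • h • g • y
      simp [mul_smul]
  · rintro ⟨⟨h, hh⟩, e⟩
    refine ⟨⟨g * h * g⁻¹, ?_⟩, ?_⟩
    · rw [MulAction.mem_stabilizer_iff, mul_smul, mul_smul, inv_smul_smul,
        MulAction.mem_stabilizer_iff.1 hh]
    · show (g * h * g⁻¹) • g • y = z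
      rw [mul_smul, mul_smul, inv_smul_smul, show h • y = g⁻¹ • z from e, smul_inv_smul]

theorem cross_ncard_smul {Y : Type} [MulAction G Y] (g : G) (x : X) (y : Y) :
    (MulAction.orbit (MulAction.stabilizer G (g • x)) (g • y)).ncard
      = (MulAction.orbit (MulAction.stabilizer G x) y).ncard := by
  rw [cross_orbit_smul, ← Set.image_smul,
    Set.InjOn.ncard_image (MulAction.injective g).injOn]

end Cfsg.Agent.Lib.Orbit
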